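import Mathlib
import Cfsg.Agent.H129.TorusChar

/-!
# The centralizer of a set of torus elements of `D.group K` (helper932)

* `cent_le_TT` : if no root and no nontrivial element of the Weyl group is trivial on `Q ⊆ T`, then `C(Q) ≤ T`;
* `cX_hc` : the characters of the coroot elements.
-/

set_option autoImplicit false
set_option linter.unusedSectionVars false

namespace Cfsg.Agent.H932.BR

open CoxeterSystem Cfsg Cfsg.Lie Cfsg.Lie.ChevalleyDatum
open Cfsg.Agent.ChevalleyStructure Cfsg.Agent.ChevalleyStructure.Elts Cfsg.Agent.ChevalleyStructure.CoxeterGeom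
  Cfsg.Agent.ChevalleyStructure.CoxeterGeomTypes Cfsg.Agent.ChevalleyStructure.NPerm
open Cfsg.Agent.Tits.Roots Cfsg.Agent.Tits.Core Cfsg.Agent.Nodes Cfsg.Agent.Nodes.Reps Cfsg.Agent.Nodes.BNOf
  Cfsg.Agent.Nodes.RGDChev Cfsg.Agent.Nodes.Bruhat Cfsg.Agent.Nodes.NormalForm
open Cfsg.Agent.KFacts.RgdField Cfsg.Agent.KFacts.RgdChevCoord Cfsg.Agent.BpExc.TorCent Cfsg.Agent.BpExc.TorChev
open Cfsg.Agent.BpExc.TowChev Cfsg.Agent.H129.TorusChar

universe u

variable {D : ChevalleyDatum} {l : ℕ} {M : CoxeterMatrix (Fin l)} (hp : IsType D l M) {K : Type u} [Field K]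
  {W : Type*} [Group W] (cs : CoxeterSystem M W)

theorem locFin_of_finite [Finite K] : LocFin K := by
  intro S _
  exact ⟨⊤, inferInstance, fun x _ => Subfield.mem_top x⟩

/-- the characters of the coroot elements -/
theorem cX_hc (j : Fin l) {a : K} (ha : a ≠ 0) (x : Fin l → ℤ) :
    cX hp (hc hp j a) x = a ^ pairing (cartanOf D l) j x := by
  have h0 : IsMC (fun x : Fin l → ℤ => a ^ pairing (cartanOf D l) j x) :=
    ⟨by simp [pairing], fun x y => by rw [pairing_add, zpow_add₀ ha]⟩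
  refine (isMC_cX hp (hc_mem hp j ha)).ext h0 (fun i => ?_) x
  rw [cX_sr, ← vec_simple hp i, ch_hc hp j ha (simple_lt hp.inList (lt_rank hp i)), pairing_vec hp j
    (simple_lt hp.inList (lt_rank hp i))]

/-- **The centralizer of a set of torus elements.** -/
theorem cent_le_TT [Finite K] (r : ℕ) [Fact r.Prime] [CharP K r] {Q : Set ↥(D.group K)}
    (hQ : Q ⊆ (TT D K : Set ↥(D.group K)))
    (hU : ∀ x, IsRoot cs hp.isCartan x → ∃ q ∈ Q, cX hp q x ≠ 1)
    (hW : ∀ w : W, (∀ q ∈ Q, ∀ x, cX hp q (rep cs hp.isCartan w x) = cX hp q x) → w = 1) :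
    Subgroup.centralizer Q ≤ TT D K := by
  have := finite_W hp cs
  have R := rgd (K := K) hp cs r
  have C := coords (K := K) hp cs r
  intro g hg
  obtain ⟨u, hu, w, k, hk, hkc, v, hv, rfl⟩ := mem_centralizer R (S := Q) hQ
    (by rw [GG_top hp cs]; exact Subgroup.mem_top g) hg
  have h1 : RGD.Sup (fun x => XX D l K x ⊓ Subgroup.centralizer Q) (RGD.Pos cs hp.isCartan) ≤ ⊥ := by
    refine RGD.Sup_le fun x hx => ?_
    intro y hy
    rw [Subgroup.mem_bot]
    obtain ⟨q, hq, hq1⟩ := hU x hx.1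
    obtain ⟨a, rfl⟩ := ((C.coord x hx.1).mem y).1 hy.1
    have h2 := Subgroup.mem_centralizer_iff.1 hy.2 q hq
    have h3 := (C.coord x hx.1).act q (hQ hq) a
    rw [h2, mul_inv_cancel_right] at h3
    have h4 := (C.coord x hx.1).inj h3
    have h5 : a = 0 := by
      by_contra h6
      apply hq1
      rw [cX_root hp cs (hQ hq) hx.1]
      exact mul_right_cancel₀ h6 (by rw [one_mul]; exact h4.symm)
    rw [h5]
    exact (C.coord x hx.1).zero
  have hu1 : u = 1 := Subgroup.mem_bot.1 (h1 hu)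
  have hv1 : v = 1 := Subgroup.mem_bot.1 (h1 hv)
  have hw : w = 1 := by
    refine hW w fun q hq x => ?_
    have h2 := cX_rp hp cs locFin_of_finite r hk (hQ hq) x
    have h3 : k * q * k⁻¹ = q := by
      rw [← Subgroup.mem_centralizer_iff.1 hkc q hq, mul_inv_cancel_right]
    rwa [h3] at h2
  subst hw
  rw [hu1, hv1, one_mul, mul_one]
  exact hk.mem_of_one

end Cfsg.Agent.H932.BR
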