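import Mathlib
import Cfsg.Agent.H145.BR.CountDefs
import Cfsg.Agent.H464.PermIrr
import Cfsg.Agent.H932.BR.PslAct

/-!
# S4891, row PSL (helper932): the characters `π_k - π_{k-1}` of `PSL_n(F)`

`π_k` = the permutation character on the `k`-subspaces.

* `card_orbits_om` : the number of orbits on pairs of subspaces;
* `permC_compl` : `π_k = π_{n-k}`;
* `irr` : `π_k - π_{k-1}` is irreducible for `1 ≤ k`, `2 k ≤ n`.
-/

set_option autoImplicit false
set_option linter.unusedSectionVars false

namespace Cfsg.Agent.H932.BR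

open Module Matrix MulAction Cfsg
open Cfsg.Agent.Characters.Core Cfsg.Agent.H464.PermIrr Cfsg.Agent.H145.BR

variable {F : Type*} [Field F] {n : ℕ}

theorem permC_eq_pc (G : Type*) [Group G] (X : Type*) [MulAction G X] : permC G X = pc G X := rfl

/-- the coordinate subspaces -/
def co (F : Type*) [Field F] {n : ℕ} (S : Finset (Fin n)) : Submodule F (Fin n → F) where
  carrier := {v | ∀ i ∉ S, v i = 0}
  add_mem' := by
    intro v w hv hw i hi
    rw [Pi.add_apply, hv i hi, hw i hi, add_zero]
  zero_mem' := fun _ _ => rfl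
  smul_mem' := by
    intro c v hv i hi
    rw [Pi.smul_apply, hv i hi, smul_zero]

theorem mem_co {S : Finset (Fin n)} {v : Fin n → F} : v ∈ co F S ↔ ∀ i ∉ S, v i = 0 := Iff.rfl

theorem co_inf (S T : Finset (Fin n)) : co F S ⊓ co F T = co F (S ∩ T) := by
  ext v
  rw [Submodule.mem_inf, mem_co, mem_co, mem_co]
  constructor
  · rintro ⟨h1, h2⟩ i hi
    rw [Finset.mem_inter, not_and_or] at hi
    exact hi.elim (h1 i) (h2 i)
  · intro h
    exact ⟨fun i hi => h i fun h' => hi (Finset.mem_inter.1 h').1, fun i hi => h i fun h' => hi (Finset.mem_inter.1 h').2⟩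

theorem finrank_co (S : Finset (Fin n)) : finrank F (co F S) = S.card := by
  have h1 : co F S = ⨅ i ∈ ((S : Set (Fin n))ᶜ), LinearMap.ker (LinearMap.proj i : (Fin n → F) →ₗ[F] F) := by
    ext v
    rw [mem_co]
    simp only [Submodule.mem_iInf, LinearMap.mem_ker, LinearMap.proj_apply, Set.mem_compl_iff, Finset.mem_coe]
  classical
  rw [h1, (LinearMap.iInfKerProjEquiv F (fun _ : Fin n => F) (I := (S : Set (Fin n))) disjoint_compl_right
    (by rw [Set.union_compl_self])).finrank_eq, Module.finrank_pi]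
  simp

/-- `SL_n(F)` on the pairs of subspaces: existence of all the types -/
theorem exists_pair {k l a : ℕ} (hk : a ≤ k) (hl : a ≤ l) (hn : k + l ≤ n + a) :
    ∃ (U : Om F n k) (W : Om F n l), finrank F (U.1 ⊓ W.1 : Submodule F (Fin n → F)) = a := by
  classical
  obtain ⟨A, -, hA⟩ := Finset.exists_subset_card_eq (s := (Finset.univ : Finset (Fin n))) (n := k + l - a)
    (by rw [Finset.card_univ, Fintype.card_fin]; omega)
  obtain ⟨S, hSA, hS⟩ := Finset.exists_subset_card_eq (s := A) (n := k) (by omega)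
  obtain ⟨S', hS'S, hS'⟩ := Finset.exists_subset_card_eq (s := S) (n := a) (by omega)
  have hd : Disjoint S' (A \ S) := Finset.disjoint_of_subset_left hS'S Finset.disjoint_sdiff
  have hT : (S' ∪ A \ S).card = l := by
    rw [Finset.card_union_of_disjoint hd, Finset.card_sdiff_of_subset hSA]
    omega
  refine ⟨⟨co F S, (finrank_co S).trans hS⟩, ⟨co F (S' ∪ A \ S), (finrank_co _).trans hT⟩, ?_⟩
  change finrank F (co F S ⊓ co F (S' ∪ A \ S) : Submodule F (Fin n → F)) = a
  rw [co_inf, finrank_co]
  have h1 : S ∩ (S' ∪ A \ S) = S' := by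
    rw [Finset.inter_union_distrib_left, Finset.inter_eq_right.2 hS'S, Finset.inter_sdiff_self, Finset.union_empty]
  rw [h1, hS']

/-- the number of orbits of `PSL_n(F)` on the pairs of subspaces -/
theorem card_orbits_om {k l : ℕ} (hk : k ≤ n) (hl : l ≤ n) :
    Nat.card (orbitRel.Quotient (ProjectiveSpecialLinearGroup (Fin n) F) (Om F n k × Om F n l)) =
      min k l - (k + l - n) + 1 := by
  have hinf : ∀ z : Om F n k × Om F n l, finrank F (z.1.1 ⊓ z.2.1 : Submodule F (Fin n → F)) ≤ min k l ∧
      k + l - n ≤ finrank F (z.1.1 ⊓ z.2.1 : Submodule F (Fin n → F)) := by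
    intro z
    have h1 : finrank F (z.1.1 ⊓ z.2.1 : Submodule F (Fin n → F)) ≤ finrank F z.1.1 := Submodule.finrank_mono inf_le_left
    have h2 : finrank F (z.1.1 ⊓ z.2.1 : Submodule F (Fin n → F)) ≤ finrank F z.2.1 := Submodule.finrank_mono inf_le_right
    have h3 := Submodule.finrank_sup_add_finrank_inf_eq z.1.1 z.2.1
    have h4 : finrank F (z.1.1 ⊔ z.2.1 : Submodule F (Fin n → F)) ≤ finrank F (Fin n → F) := Submodule.finrank_le _
    have h5 : finrank F (Fin n → F) = n := by rw [finrank_fin_fun]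
    have h6 := z.1.2
    have h7 := z.2.2
    omega
  refine card_orbits _ (fun z => ⟨finrank F (z.1.1 ⊓ z.2.1 : Submodule F (Fin n → F)) - (k + l - n), by
    have := hinf z
    omega⟩) ?_ ?_ ?_
  · intro g z
    obtain ⟨g, rfl⟩ := QuotientGroup.mk_surjective g
    apply Fin.ext
    change finrank F ((z.1.1.map (Matrix.SpecialLinearGroup.toLin' g).toLinearMap) ⊓
      (z.2.1.map (Matrix.SpecialLinearGroup.toLin' g).toLinearMap) : Submodule F (Fin n → F)) - _ = _ - _
    rw [← Submodule.map_inf _ (Matrix.SpecialLinearGroup.toLin' g).injective, LinearEquiv.finrank_map_eq]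
  · intro j
    obtain ⟨U, W, h⟩ := exists_pair (F := F) (n := n) (k := k) (l := l) (a := j + (k + l - n)) (by omega) (by omega)
      (by omega)
    refine ⟨(U, W), Fin.ext ?_⟩
    change finrank F (U.1 ⊓ W.1 : Submodule F (Fin n → F)) - _ = _
    rw [h, Nat.add_sub_cancel]
  · intro z z' h
    have h1 : finrank F (z.1.1 ⊓ z.2.1 : Submodule F (Fin n → F)) - (k + l - n) =
      finrank F (z'.1.1 ⊓ z'.2.1 : Submodule F (Fin n → F)) - (k + l - n) := congrArg Fin.val h
    have h2 := (hinf z).2
    have h3 := (hinf z').2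
    obtain ⟨g, hg1, hg2⟩ := exists_sl_pair (z.1.2.trans z'.1.2.symm) (z.2.2.trans z'.2.2.symm)
      (show finrank F (z.1.1 ⊓ z.2.1 : Submodule F (Fin n → F)) =
        finrank F (z'.1.1 ⊓ z'.2.1 : Submodule F (Fin n → F)) by omega)
    refine ⟨QuotientGroup.mk g, Prod.ext (Subtype.ext hg1) (Subtype.ext hg2)⟩

variable [Finite F]

/-- **`π_k = π_{n-k}`** -/
theorem permC_compl {k : ℕ} (hk : k ≤ n) : permC (ProjectiveSpecialLinearGroup (Fin n) F) (Om F n k) =
    permC (ProjectiveSpecialLinearGroup (Fin n) F) (Om F n (n - k)) := by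
  have := Fintype.ofFinite (ProjectiveSpecialLinearGroup (Fin n) F)
  rw [← sub_eq_zero]
  refine classInner_self_eq_zero ?_
  rw [permC_eq_pc, permC_eq_pc]
  simp only [classInner_sub_left, classInner_sub_right, classInner_pc]
  rw [card_orbits_om hk hk, card_orbits_om hk (Nat.sub_le n k), card_orbits_om (Nat.sub_le n k) hk,
    card_orbits_om (Nat.sub_le n k) (Nat.sub_le n k)]
  have e1 : min k k - (k + k - n) = min k (n - k) := by omega
  have e2 : min k (n - k) - (k + (n - k) - n) = min k (n - k) := by omega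
  have e3 : min (n - k) k - ((n - k) + k - n) = min k (n - k) := by omega
  have e4 : min (n - k) (n - k) - ((n - k) + (n - k) - n) = min k (n - k) := by omega
  rw [e1, e2, e3, e4]
  ring

/-- **`π_k - π_{k-1}` is irreducible** -/
theorem irr {k : ℕ} (h1 : 1 ≤ k) (h2 : 2 * k ≤ n) : IsIrrCharacter (ProjectiveSpecialLinearGroup (Fin n) F)
    (permC (ProjectiveSpecialLinearGroup (Fin n) F) (Om F n k) -
      permC (ProjectiveSpecialLinearGroup (Fin n) F) (Om F n (k - 1))) := by
  have := Fintype.ofFinite (ProjectiveSpecialLinearGroup (Fin n) F)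
  rw [permC_eq_pc, permC_eq_pc]
  have hk : k ≤ n := by omega
  have hk' : k - 1 ≤ n := by omega
  have e1 := card_orbits_om (F := F) hk hk
  have e2 := card_orbits_om (F := F) hk hk'
  have e3 := card_orbits_om (F := F) hk' hk
  have e4 := card_orbits_om (F := F) hk' hk'
  have f1 : min k k - (k + k - n) + 1 = k + 1 := by omega
  have f2 : min k (k - 1) - (k + (k - 1) - n) + 1 = k := by omega
  have f3 : min (k - 1) k - ((k - 1) + k - n) + 1 = k := by omega
  have f4 : min (k - 1) (k - 1) - ((k - 1) + (k - 1) - n) + 1 = k := by omega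
  rw [f1] at e1
  rw [f2] at e2
  rw [f3] at e3
  rw [f4] at e4
  have h3 : classInner (pc (ProjectiveSpecialLinearGroup (Fin n) F) (Om F n k) -
      pc (ProjectiveSpecialLinearGroup (Fin n) F) (Om F n (k - 1)))
      (pc (ProjectiveSpecialLinearGroup (Fin n) F) (Om F n k) -
      pc (ProjectiveSpecialLinearGroup (Fin n) F) (Om F n (k - 1))) = 1 := by
    simp only [classInner_sub_left, classInner_sub_right, classInner_pc]
    rw [e1, e2, e3, e4]
    push_cast
    ring
  rcases isIrr_of_generalized ⟨_, _, isCharacter_pc _ _, isCharacter_pc _ _, rfl⟩ h3 with h | h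
  · exact h
  · exfalso
    obtain ⟨m, hm⟩ := classInner_isNat (isIrr_isCharacter h)
      (isCharacter_pc (ProjectiveSpecialLinearGroup (Fin n) F) (Om F n k))
    rw [classInner_neg_left, classInner_sub_left, classInner_pc, classInner_pc, e1, e3] at hm
    have h4 : ((m + 1 : ℕ) : ℂ) = 0 := by
      push_cast
      rw [← hm]
      push_cast
      ring
    exact absurd (Nat.cast_eq_zero.1 h4) (Nat.succ_ne_zero m)

end Cfsg.Agent.H932.BR
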